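import Cfsg.Agent.H73.Rg.HCore
import Cfsg.Agent.H190.Odd.CoreKill

/-!
# The core argument for half classes, with killed primes (helper290)

`coreK` : `H73.Rg.coreH` with the reducedness hypothesis `Good B n t ∨ KillB B t`; `sep_of` : separation of two classes.
-/

set_option autoImplicit false

namespace Cfsg.Agent.H290.Rg

open Cfsg Cfsg.Agent.OrdDiv Cfsg.Agent.H436 Cfsg.Agent.H902 Cfsg.Agent.H902.Names Cfsg.Agent.H915.GN
  Cfsg.Agent.H290.ElReg Cfsg.Agent.H290.ElTab Cfsg.Agent.H290.ElCross Cfsg.Agent.H264.FKS Cfsg.Agent.H56.Exc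
  Cfsg.Agent.H325.Loc Cfsg.Agent.H563.KG Cfsg.Agent.H73.Rg Cfsg.Agent.H190.Odd

variable {n p f : ℕ} {fam : List ℕ} {M E : ℕ → ℕ}

/-- **The simple normal subgroup.** -/
theorem coreK (hcyc : CycFixSolv.{0}) (hp : p.Prime) (hf : 1 ≤ f) {F : Type} [Field F] [CharP F p]
    {T : Type} [Group T] [Finite T] (hrep : Fth n F T)
    (hbig : ∀ c ∈ fam, ∀ r, Prim (p ^ f) c r → Big T r (M c) (E c))
    {c₀ r₀ : ℕ} (hc₀ : c₀ ∈ fam) (hr₀ : Prim p (f * c₀) r₀) (hpiso : PIso p r₀ T)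
    {B : Subgroup T} (hr₀B : r₀ ∣ Nat.card B) (hsep : ∀ c ∈ fam, ¬ Nat.card B ∣ E c * M c)
    (hne : ∀ c ∈ fam, ∃ r, Prim p (f * c) r ∧ r ∣ Nat.card B)
    (hgood : ∀ t : ℕ, t.Prime → t ≠ p → (∀ c ∈ fam, ¬ Prim p (f * c) t) → t ∣ Nat.card B →
      Good B n t ∨ KillB B t) :
    ∃ (S : Subgroup B) (_ : S.Normal) (_ : IsSimpleGroup S), ¬ IsMulCommutative S ∧
      (∀ c ∈ fam, S.index ∣ E c * M c) ∧
      (∀ c ∈ fam, ∀ r, Prim p (f * c) r → r ∣ Nat.card B →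
        Big S r (M c) (E c) ∧ r ∣ Nat.card S ∧ ¬ r ∣ S.index) := by
  have := Fact.mk hp
  have hrf : RFam ↥B (FmH p f fam M E (Nat.card B)) :=
    { big := by
        rintro r m e ⟨c, hc, h, -, rfl, rfl⟩
        exact (hbig c hc r (prim_q hf h)).subgroup B
      dvd := by
        rintro r m e ⟨c, hc, h, hN, rfl, rfl⟩
        exact hN
      sep := by
        rintro r m e ⟨c, hc, h, -, rfl, rfl⟩
        exact hsep c hc }
  obtain ⟨τ, hτ⟩ := hrep.sub B.subtype B.subtype_injective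
  have hred : Red ↥B (Pr (FmH p f fam M E (Nat.card B))) := by
    refine red_kill (p := p) hcyc (fun A hA hAp => pcore_of_piso (hpiso.sub B) hr₀B A hA hAp)
      (pr_fmH.2 ⟨c₀, hc₀, hr₀, hr₀B⟩) hr₀.prime hr₀B
      (fun x hx => ((hbig c₀ hc₀ r₀ (prim_q hf hr₀)).subgroup B).cyc x hx) fun t ht htp htn htB => ?_
    rcases hgood t ht htp (fun c hc h => htn (pr_fmH.2 ⟨c, hc, h, htB⟩)) htB with h | h
    · exact Good.kill hτ h ht htp (Fintype.card_fin n).le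
    · exact h
  obtain ⟨S, hSn, hSs, hSna, hS⟩ :=
    hrf.exists_full hcyc hred (r₁ := r₀) (m₁ := M c₀) (e₁ := E c₀) ⟨c₀, hc₀, hr₀, hr₀B, rfl, rfl⟩
  refine ⟨S, hSn, hSs, hSna, fun c hc => ?_, fun c hc r h hrB => ?_⟩
  · obtain ⟨r, hr, hrB⟩ := hne c hc
    exact (hS r (M c) (E c) ⟨c, hc, hr, hrB, rfl, rfl⟩).2.2.2
  · obtain ⟨h1, h2, h3, -⟩ := hS r (M c) (E c) ⟨c, hc, h, hrB, rfl, rfl⟩
    exact ⟨h1, h2, h3⟩

/-- separation of two classes -/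
theorem sep_of {c c' N Mc Ec : ℕ} (hf : 1 ≤ f) {r : ℕ} (hr : Prim p (f * c') r) (hrN : r ∣ N) (hcc : ¬ c' ∣ c)
    (hM : Mc ∣ (p ^ f) ^ c - 1) (hE : ¬ r ∣ Ec) : ¬ N ∣ Ec * Mc := by
  intro h
  rcases hr.prime.dvd_mul.1 (hrN.trans h) with h1 | h1
  · exact hE h1
  · exact hcc (((prim_q hf hr).dvd_iff c).1 (h1.trans hM))

end Cfsg.Agent.H290.Rg
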