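import Cfsg.Agent.H290.Rg.CoreK
import Cfsg.Agent.H190.Cov.K98
import Cfsg.Agent.H190.Cov.K128
import Cfsg.Agent.H72.Same.Two
import Cfsg.Agent.H427.Rg.Aut

/-!
# Subgroups of `E₆(q)`, `q ≥ 3`, containing half of two classes (helper290, S3691)

* `k912` : `HOff p f [9, 12] B → B = ⊤`;
* `k98` : `HOff p f [9, 8] B → B = ⊤`;
* `k812` : `B ≠ ⊤ → HOff p f [8, 12] B →` no prime of the classes 9, 5 divides `|B|`.
-/

set_option autoImplicit false
set_option exponentiation.threshold 7000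
set_option linter.unusedSectionVars false

namespace Cfsg.Agent.H290.Rg.KH6

open Cfsg Cfsg.Agent.OrdDiv Cfsg.Agent.H436 Cfsg.Agent.H902 Cfsg.Agent.H902.Names Cfsg.Agent.H915.GN
  Cfsg.Agent.H290.ElReg Cfsg.Agent.H290.ElTab Cfsg.Agent.H290.ElCross Cfsg.Agent.H264.FKS Cfsg.Agent.H56.Exc
  Cfsg.Agent.H325.Loc Cfsg.Agent.H563.KG Cfsg.Agent.H73.Rg Cfsg.Agent.H190.Odd Cfsg.Agent.H325.IsoExc
  Cfsg.Agent.H325.IsoFree Cfsg.Agent.H563.KG.Kill Cfsg.Agent.H72.Same

/-- the orders of the tori -/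
def M6 (q c : ℕ) : ℕ := if c = 9 then Ph 9 q else if c = 12 then Ph 12 q * (q ^ 2 + q + 1) else Ph 8 q * (q ^ 2 - 1)

/-- the classes -/
def Cl6 (c : ℕ) : Prop := c = 8 ∨ c = 9 ∨ c = 12

section num

variable {q : ℕ}

theorem cast9 : ((Ph 9 q : ℕ) : ℤ) = 1 + (q : ℤ) ^ 3 + (q : ℤ) ^ 6 := by rw [cast_Ph9]; ring

theorem cast12 (hq : 1 ≤ q) : ((Ph 12 q * (q ^ 2 + q + 1) : ℕ) : ℤ) =
    (1 - (q : ℤ) ^ 2 + (q : ℤ) ^ 4) * (1 + (q : ℤ) + (q : ℤ) ^ 2) := by
  rw [Nat.cast_mul, cast_Ph12 _ hq]; push_cast; ring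

theorem cast8 (hq : 1 ≤ q) : ((Ph 8 q * (q ^ 2 - 1) : ℕ) : ℤ) = (1 + (q : ℤ) ^ 4) * ((q : ℤ) ^ 2 - 1) := by
  rw [Nat.cast_mul, cast_Ph8, cast_sub_one hq]; ring

theorem M6_dvd (hq : 1 ≤ q) {c : ℕ} (hc : Cl6 c) : M6 q c ∣ q ^ c - 1 := by
  rcases hc with rfl | rfl | rfl
  · change Ph 8 q * (q ^ 2 - 1) ∣ _
    refine dvd_of_cast (c := ((q : ℤ) ^ 2 + 1)) ?_
    rw [cast_sub_one hq, cast8 hq]
    ring
  · exact Ph_dvd c9 hq
  · change Ph 12 q * (q ^ 2 + q + 1) ∣ _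
    refine dvd_of_cast (c := ((q : ℤ) ^ 2 + 1) * ((q : ℤ) ^ 2 - 1) * ((q : ℤ) ^ 2 - q + 1)) ?_
    rw [cast_sub_one hq, cast12 hq]
    ring

end num

theorem not_dvd_cl {p f c c' r : ℕ} (hp : 2 ≤ p) (hf : 1 ≤ f) (hc : Cl6 c) (hc' : Cl6 c') (hr : Prim p (f * c') r) :
    ¬ r ∣ c := by
  intro h
  have h1 := mod_of_prim' hp hr
  have h2 : f * c' ≤ r - 1 := Nat.le_of_dvd (by have := hr.prime.two_le; omega) h1
  have h3 : 1 * c' ≤ f * c' := Nat.mul_le_mul_right _ hf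
  have h4 : r ∣ 2 * 3 := by
    rcases hc with rfl | rfl | rfl
    · exact (hr.prime.dvd_of_dvd_pow (show r ∣ 2 ^ 3 from h)).trans (by norm_num)
    · exact (hr.prime.dvd_of_dvd_pow (show r ∣ 3 ^ 2 from h)).trans (by norm_num)
    · rcases hr.prime.dvd_mul.1 (show r ∣ 2 ^ 2 * 3 from h) with h | h
      · exact (hr.prime.dvd_of_dvd_pow h).trans (by norm_num)
      · exact h.trans (by norm_num)
  have h5 := Nat.le_of_dvd (by norm_num) h4
  rcases hc' with rfl | rfl | rfl <;> omega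

theorem not_dvd_pair {c c' : ℕ} (hc : Cl6 c) (hc' : Cl6 c') (hne : c ≠ c') : ¬ c' ∣ c := by
  rcases hc with rfl | rfl | rfl <;> rcases hc' with rfl | rfl | rfl <;> first | exact absurd rfl hne | decide

section

variable {F : Type} [Field F] [Fintype F] {p f : ℕ} [CharP F p]

theorem big6 (hp : p.Prime) (hq : Fintype.card F = p ^ f) {c : ℕ} (hc : Cl6 c) {r : ℕ} (hr : Prim (p ^ f) c r) :
    Big ↥(Lie.chevE6.group F) r (M6 (p ^ f) c) c := by
  have hq1 : 1 ≤ p ^ f := Nat.one_le_pow _ _ hp.pos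
  rcases hc with rfl | rfl | rfl
  · exact big_E6_8 hq (cast8 hq1) hr
  · exact big_E6_9 hq cast9 hr
  · exact big_E6_12 hq (cast12 hq1) hr

theorem ord6 (hp : p.Prime) (hq : Fintype.card F = p ^ f) {c : ℕ} (hc : Cl6 c) :
    Ord ↥(Lie.chevE6.group F) (p ^ f) c (M6 (p ^ f) c) := fun _ hr x hx => (big6 hp hq hc hr).card x hx

theorem piso6 (hp : p.Prime) (hq : Fintype.card F = p ^ f) {c : ℕ} (hc : c = 9 ∨ c = 12) {r : ℕ}
    (hr : Prim (p ^ f) c r) : PIso p r ↥(Lie.chevE6.group F) := by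
  have := Fact.mk hp
  rcases hc with rfl | rfl
  · exact piso_E6 (F := F) (by rw [hq]; exact hr)
  · exact piso_E6_12 (F := F) (by rw [hq]; exact hr)

variable (tb : OrderTable.{0}) (hcyc : CycFixSolv.{0}) (hcf : CF)

include tb hcyc hcf in
/-- **The simple normal subgroup.** -/
theorem half6 {D : TD} {c c' : ℕ} (ht : TblH 78 D [] c c') (hY : D.Y = .E6) (he : D.e = c) (he' : D.e' = c')
    (hex : D.exs = []) (hc : Cl6 c) (hc' : Cl6 c') (hne : c ≠ c') (hp : p.Prime) (hf : 1 ≤ f)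
    (hq : Fintype.card F = p ^ f) (hq0 : D.q₀ ≤ p ^ f) (B : Subgroup ↥(Lie.chevE6.group F)) (hB : HOff p f [c, c'] B)
    (hgood : ∀ t : ℕ, t.Prime → t ≠ p → ¬ Prim p (f * c) t → ¬ Prim p (f * c') t → t ∣ Nat.card B →
      Good B 78 t ∨ KillB B t) :
    ∃ (S : Subgroup B) (_ : S.Normal) (_ : IsSimpleGroup S), S.index ∣ c * M6 (p ^ f) c ∧ S.index ∣ c' * M6 (p ^ f) c' ∧
      (∀ d, (d = c ∨ d = c') → ∀ r, Prim p (f * d) r → r ∣ Nat.card B →
        Big S r (M6 (p ^ f) d) d ∧ r ∣ Nat.card S ∧ ¬ r ∣ S.index) ∧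
      ∃ g, IsNamed g S ∧ HasChar p g := by
  have hp2 := hp.two_le
  have hq1 : 1 ≤ p ^ f := Nat.one_le_pow _ _ hp.pos
  have hT := named_e6 (F := F) tb
  rw [hq] at hT
  have hdT : Nat.card ↥(Lie.chevE6.group F) ∣ OL .E6 (p ^ f) := by
    rw [← show num (.e6 (p ^ f)) = OL .E6 (p ^ f) from rfl, ← hT.eq]
    exact Dvd.intro_left _ rfl
  have hall : ∀ d ∈ [c, c'], Cl6 d := by
    intro d hd
    have hd' : d = c ∨ d = c' := by simpa using hd
    rcases hd' with rfl | rfl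
    · exact hc
    · exact hc'
  have h8 : ∀ d, Cl6 d → 8 ≤ d := by rintro d (rfl | rfl | rfl) <;> norm_num
  have hex1 : ∀ d ∈ [c, c'], ∃ r, Prim p (f * d) r ∧ r ∣ Nat.card B := fun d hd =>
    (hB d hd).exists_prim hp2 hf (by have := h8 d (hall d hd); omega) (by have := h8 d (hall d hd); omega)
  -- a class for the parabolic subgroups
  obtain ⟨c₀, hc₀, hc₀'⟩ : ∃ c₀ ∈ [c, c'], c₀ = 9 ∨ c₀ = 12 := by
    rcases hc with rfl | rfl | rfl
    · exact ⟨c', by simp, hc'.resolve_left (fun h => hne h.symm)⟩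
    · exact ⟨9, by simp, Or.inl rfl⟩
    · exact ⟨12, by simp, Or.inr rfl⟩
  obtain ⟨r₀, hr₀, hr₀B⟩ := hex1 c₀ hc₀
  obtain ⟨S, hSn, hSs, hSna, hidx, hbS⟩ := coreK (n := 78) hcyc hp hf (F := F) (fam := [c, c']) (M := M6 (p ^ f))
    (E := fun d => d) fth_E6 (fun d hd r hr => big6 hp hq (hall d hd) hr) hc₀ hr₀
    (piso6 hp hq hc₀' (prim_q hf hr₀)) hr₀B (fun d hd => by
      -- separation
      obtain ⟨d', hd', hdd⟩ : ∃ d' ∈ [c, c'], d ≠ d' := by
        have hd' : d = c ∨ d = c' := by simpa using hd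
        rcases hd' with rfl | rfl
        · exact ⟨c', by simp, hne⟩
        · exact ⟨c, by simp, hne.symm⟩
      obtain ⟨r, hr, hrB⟩ := hex1 d' hd'
      exact sep_of hf hr hrB (not_dvd_pair (hall d hd) (hall d' hd') hdd) (M6_dvd hq1 (hall d hd))
        (not_dvd_cl hp2 hf (hall d hd) (hall d' hd') hr)) hex1
    (fun t ht htp htn htB => hgood t ht htp (htn c (by simp)) (htn c' (by simp)) htB)
  have hS2 : ∀ d ∈ [c, c'], PP p (f * d) ≤ (Nat.gcd (Nat.card S) (PP p (f * d))) ^ 2 := fun d hd =>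
    half_S hp2 (by have h1 := h8 d (hall d hd)
                   have h2 : 1 * d ≤ f * d := Nat.mul_le_mul_right _ hf
                   omega) S (hB d hd).half fun r hr hrB => (hbS d hd r hr hrB).2.2
  have hdS : Nat.card S ∣ OL .E6 (p ^ f) :=
    ((Subgroup.card_subgroup_dvd_card S).trans (Subgroup.card_subgroup_dvd_card B)).trans hdT
  refine ⟨S, hSn, hSs, hidx c (by simp), hidx c' (by simp), fun d hd => hbS d (by simpa using hd), ?_⟩
  refine nameH (EE := c) (EE' := c') (N := M6 (p ^ f) c) (N' := M6 (p ^ f) c') tb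
    (fun {_} _ _ {_ _ _ _} h Φ h5 hd => Cfsg.Agent.H427.Rg.alt_aut h Φ h5 hd) ht hp hf hq0 (F := F) (S := S) hSna (hcf S)
    ((fth_E6.sub B.subtype B.subtype_injective).sub S.subtype S.subtype_injective)
    (by rw [hY]; exact hdS) (by rw [he]; exact hS2 c (by simp)) (by rw [he']; exact hS2 c' (by simp))
    (by rw [hex]; intro d hd; cases hd)
    (fun r hr hrS => (hbS c (by simp) r (he ▸ hr) (hrS.trans (Subgroup.card_subgroup_dvd_card S))).1)
    (fun r hr hrS => (hbS c' (by simp) r (he' ▸ hr) (hrS.trans (Subgroup.card_subgroup_dvd_card S))).1)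
    (fun g l X a _ _ _ h => by cases h)

end

/-! ### the tables -/

def D912 : TD := ⟨.E6, 9, 12, 23, 6, 4, [], 3⟩
def D98 : TD := ⟨.E6, 9, 8, 23, 6, 4, [], 3⟩
def D812 : TD := ⟨.E6, 8, 12, 101, 4, 4, [], 3⟩

theorem tbl912 : TblH 78 D912 [] 9 12 where
  hn := by norm_num
  ok := ⟨by decide, by decide, by decide, by decide, by decide, by decide, by decide, by decide⟩
  ne := by decide
  hR := by decide +kernel
  hS := by decide +kernel
  hE := by norm_num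
  hE' := by norm_num
  hE30 := by norm_num
  hE30' := by norm_num
  hA := by decide +kernel

theorem tbl98 : TblH 78 D98 [] 9 8 where
  hn := by norm_num
  ok := ⟨by decide, by decide, by decide, by decide, by decide, by decide, by decide, by decide⟩
  ne := by decide
  hR := by decide +kernel
  hS := by decide +kernel
  hE := by norm_num
  hE' := by norm_num
  hE30 := by norm_num
  hE30' := by norm_num
  hA := by decide +kernel

theorem tbl812 : TblH 78 D812 [] 8 12 where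
  hn := by norm_num
  ok := ⟨by decide, by decide, by decide, by decide, by decide, by decide, by decide, by decide⟩
  ne := by decide
  hR := by decide +kernel
  hS := by decide +kernel
  hE := by norm_num
  hE' := by norm_num
  hE30 := by norm_num
  hE30' := by norm_num
  hA := by decide +kernel

section

variable {F : Type} [Field F] [Fintype F] {p f : ℕ} [CharP F p]

/-- reducedness of a subgroup with half of the classes `c`, `c'` -/
def GoodB (p f c c' : ℕ) (B : Subgroup ↥(Lie.chevE6.group F)) : Prop :=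
  ∀ t : ℕ, t.Prime → t ≠ p → ¬ Prim p (f * c) t → ¬ Prim p (f * c') t → t ∣ Nat.card B → Good B 78 t ∨ KillB B t

variable (tb : OrderTable.{0}) (hcyc : CycFixSolv.{0}) (hcf : CF)

theorem card_le6 (hT : IsNamed (.e6 (p ^ f)) ↥(Lie.chevE6.group F)) {B : Subgroup ↥(Lie.chevE6.group F)}
    (S : Subgroup B) : Nat.card S ∣ num (.e6 (p ^ f)) := IsNamed.card_dvd hT S

theorem h1_of {c : ℕ} (hp : p.Prime) (hf : 1 ≤ f) {B : Subgroup ↥(Lie.chevE6.group F)} (hB : HAt p f c B) (hc : 8 ≤ c)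
    {S : Subgroup B} (h : ∀ r, Prim p (f * c) r → r ∣ Nat.card B →
      Big S r (M6 (p ^ f) c) c ∧ r ∣ Nat.card S ∧ ¬ r ∣ S.index) : H1 p f c (Nat.card S) := by
  obtain ⟨r, hr, hrB⟩ := hB.exists_prim hp.two_le hf (by omega) (by omega)
  exact ⟨r, hr, (h r hr hrB).2.1⟩

include tb hcyc hcf in
/-- **The classes 9, 8.** -/
theorem k98 (hp : p.Prime) (hf : 1 ≤ f) (hq : Fintype.card F = p ^ f) (hq3 : 3 ≤ p ^ f)
    (B : Subgroup ↥(Lie.chevE6.group F)) (hB : HOff p f [9, 8] B) (hg : GoodB p f 9 8 B) : B = ⊤ := by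
  have hT := named_e6 (F := F) tb
  rw [hq] at hT
  obtain ⟨S, _, _, -, -, hbS, g, hgS, hch⟩ := half6 tb hcyc hcf tbl98 rfl rfl rfl rfl (Or.inr (Or.inl rfl)) (Or.inl rfl)
    (by norm_num) hp hf hq hq3 B hB hg
  obtain rfl := charp_e6_89 hp hf hgS.cond hch hgS.eq (card_le6 hT S)
    (h1_of hp hf (hB 8 (by simp)) (by norm_num) (hbS 8 (Or.inr rfl)))
    (h1_of hp hf (hB 9 (by simp)) (by norm_num) (hbS 9 (Or.inl rfl)))
  exact eq_top_of_name hT hgS

include tb hcyc hcf in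
/-- **The classes 9, 12.** -/
theorem k912 (hp : p.Prime) (hf : 1 ≤ f) (hq : Fintype.card F = p ^ f) (hq3 : 3 ≤ p ^ f)
    (B : Subgroup ↥(Lie.chevE6.group F)) (hB : HOff p f [9, 12] B) (hg : GoodB p f 9 12 B) : B = ⊤ := by
  have := Fact.mk hp
  have hT := named_e6 (F := F) tb
  rw [hq] at hT
  obtain ⟨S, _, _, -, -, hbS, g, hgS, hch⟩ := half6 tb hcyc hcf tbl912 rfl rfl rfl rfl (Or.inr (Or.inl rfl))
    (Or.inr (Or.inr rfl)) (by norm_num) hp hf hq hq3 B hB hg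
  obtain ⟨r, hr, hrB⟩ := (hB 9 (by simp)).exists_prim hp.two_le hf (by norm_num) (by norm_num)
  have hr' := prim_q hf hr
  rcases charp_e6_reg hp hf hgS.cond hch hgS.eq (card_le6 hT S)
    (h1_of hp hf (hB 12 (by simp)) (by norm_num) (hbS 12 (Or.inr rfl)))
    (h1_of hp hf (hB 9 (by simp)) (by norm_num) (hbS 9 (Or.inl rfl))) with rfl | rfl | ⟨f₁, hf₁, rfl⟩
  · exact eq_top_of_name hT hgS
  · exfalso
    exact kill_psl4 hp hf hgS hr' fun x hx => (hbS 9 (Or.inl rfl) r hr hrB).1.card x hx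
  · exfalso
    exact Cfsg.Agent.H325.Same.kill_ominus4 hp hf hf₁ hgS (by rw [mul_comm]; exact hr) (hbS 9 (Or.inl rfl) r hr hrB).2.1
      (((piso_E6 (F := F) (by rw [hq]; exact hr')).sub B).sub S)

/-- the primes of the classes 9, 5 do not divide the order of a subgroup with a normal subgroup `F₄(q)` or `L₃(q⁴)` -/
theorem not_dvd_B {q c r : ℕ} (hq1 : 1 ≤ q) (hc : c = 9 ∨ c = 5) (hr : Prim q c r) {B : Type*} [Group B] [Finite B]
    {S : Subgroup B} {g : Grp} (hgS : IsNamed g S) (hg : g = .f4 q ∨ g = .psl 3 (q ^ 4))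
    (hidx : S.index ∣ 8 * M6 q 8) : ¬ r ∣ Nat.card B := by
  have hne : r ≠ 2 := Cfsg.Agent.H190.Cov.prim_not_two hr (by omega)
  have hsub : ∀ d, ¬ c ∣ d → ¬ r ∣ q ^ d - 1 := fun d hd h => hd ((hr.dvd_iff d).1 h)
  have hpow : ∀ d, ¬ r ∣ q ^ d := fun d h => hr.not_dvd (hr.prime.dvd_of_dvd_pow h)
  intro h
  rw [← Subgroup.card_mul_index S] at h
  rcases hr.prime.dvd_mul.1 h with h | h
  · have h1 : r ∣ num g := h.trans (by rw [← hgS.eq]; exact Dvd.intro_left _ rfl)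
    rcases hg with rfl | rfl
    · have h2 : num (.f4 q) = q ^ 24 * ((q ^ 2 - 1) * (q ^ 6 - 1) * (q ^ 8 - 1) * (q ^ 12 - 1)) := rfl
      rw [h2] at h1
      rcases hr.prime.dvd_mul.1 h1 with h1 | h1
      · exact hpow _ h1
      rcases hr.prime.dvd_mul.1 h1 with h1 | h1
      · rcases hr.prime.dvd_mul.1 h1 with h1 | h1
        · rcases hr.prime.dvd_mul.1 h1 with h1 | h1
          · exact hsub 2 (by rcases hc with rfl | rfl <;> norm_num) h1
          · exact hsub 6 (by rcases hc with rfl | rfl <;> norm_num) h1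
        · exact hsub 8 (by rcases hc with rfl | rfl <;> norm_num) h1
      · exact hsub 12 (by rcases hc with rfl | rfl <;> norm_num) h1
    · have h2 : num (.psl 3 (q ^ 4)) = ((q ^ 4) ^ 3 - (q ^ 4) ^ 0) * ((q ^ 4) ^ 3 - (q ^ 4) ^ 1) *
          ((q ^ 4) ^ 3 - (q ^ 4) ^ 2) := by
        change ((List.range 3).map fun i => (q ^ 4) ^ 3 - (q ^ 4) ^ i).prod = _
        simp only [List.range, List.range.loop, List.map_cons, List.map_nil, List.prod_cons, List.prod_nil, mul_one,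
          mul_assoc]
      have e0 : (q ^ 4) ^ 3 - (q ^ 4) ^ 0 = q ^ 12 - 1 := by rw [← pow_mul, pow_zero]
      have e1 : (q ^ 4) ^ 3 - (q ^ 4) ^ 1 = q ^ 4 * (q ^ 8 - 1) := by
        rw [Nat.mul_sub, mul_one, ← pow_add, ← pow_mul, pow_one]
      have e2 : (q ^ 4) ^ 3 - (q ^ 4) ^ 2 = q ^ 8 * (q ^ 4 - 1) := by
        rw [Nat.mul_sub, mul_one, ← pow_add, ← pow_mul, ← pow_mul]
      rw [h2, e0, e1, e2] at h1
      rcases hr.prime.dvd_mul.1 h1 with h1 | h1
      · rcases hr.prime.dvd_mul.1 h1 with h1 | h1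
        · exact hsub 12 (by rcases hc with rfl | rfl <;> norm_num) h1
        · rcases hr.prime.dvd_mul.1 h1 with h1 | h1
          · exact hpow _ h1
          · exact hsub 8 (by rcases hc with rfl | rfl <;> norm_num) h1
      · rcases hr.prime.dvd_mul.1 h1 with h1 | h1
        · exact hpow _ h1
        · exact hsub 4 (by rcases hc with rfl | rfl <;> norm_num) h1
  · have h1 : r ∣ 8 * (Ph 8 q * (q ^ 2 - 1)) := h.trans hidx
    rcases hr.prime.dvd_mul.1 h1 with h1 | h1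
    · exact hne ((Nat.prime_dvd_prime_iff_eq hr.prime Nat.prime_two).1
        (hr.prime.dvd_of_dvd_pow (show r ∣ 2 ^ 3 from h1)))
    rcases hr.prime.dvd_mul.1 h1 with h1 | h1
    · exact hsub 8 (by rcases hc with rfl | rfl <;> norm_num) (h1.trans (Ph_dvd c8 hq1))
    · exact hsub 2 (by rcases hc with rfl | rfl <;> norm_num) h1

include tb hcyc hcf in
/-- **The classes 8, 12.** -/
theorem k812 (hp : p.Prime) (hf : 1 ≤ f) (hq : Fintype.card F = p ^ f) (hq3 : 3 ≤ p ^ f)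
    (B : Subgroup ↥(Lie.chevE6.group F)) (hB : HOff p f [8, 12] B) (hg : GoodB p f 8 12 B) (hBt : B ≠ ⊤) :
    (∀ r, Prim (p ^ f) 9 r → ¬ r ∣ Nat.card B) ∧ ∀ r, Prim (p ^ f) 5 r → ¬ r ∣ Nat.card B := by
  have hq1 : 1 ≤ p ^ f := Nat.one_le_pow _ _ hp.pos
  have hT := named_e6 (F := F) tb
  rw [hq] at hT
  obtain ⟨S, hSn, hSs, hidx, -, hbS, g, hgS, hch⟩ := half6 tb hcyc hcf tbl812 rfl rfl rfl rfl (Or.inl rfl)
    (Or.inr (Or.inr rfl)) (by norm_num) hp hf hq (le_trans (by decide) hq3) B hB hg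
  have hcs := charp_e6_812 hp hf hgS.cond hch hgS.eq (card_le6 hT S)
    (h1_of hp hf (hB 8 (by simp)) (by norm_num) (hbS 8 (Or.inl rfl)))
    (h1_of hp hf (hB 12 (by simp)) (by norm_num) (hbS 12 (Or.inr rfl)))
  have hg' : g = .f4 (p ^ f) ∨ g = .psl 3 ((p ^ f) ^ 4) := by
    rcases hcs with rfl | rfl | rfl
    · exact absurd (eq_top_of_name hT hgS) hBt
    · exact Or.inl rfl
    · right
      rw [mul_comm 4 f, pow_mul]
  exact ⟨fun r hr => not_dvd_B hq1 (Or.inl rfl) hr hgS hg' hidx, fun r hr => not_dvd_B hq1 (Or.inr rfl) hr hgS hg' hidx⟩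

end

end Cfsg.Agent.H290.Rg.KH6
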